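import Mathlib

/-!
# The trace of a rational `24 × 24` matrix of order 35 (helper155)
-/

set_option autoImplicit false

namespace Cfsg.Agent.H155.TC.Cyc

open Polynomial

theorem cyc35 : cyclotomic 35 ℚ * cyclotomic 5 ℚ = X ^ 28 + X ^ 21 + X ^ 14 + X ^ 7 + 1 := by
  have h := cyclotomic_expand_eq_cyclotomic_mul (p := 7) (n := 5) (by norm_num) (by norm_num) ℚ
  have h5 : cyclotomic 5 ℚ = X ^ 4 + X ^ 3 + X ^ 2 + X + 1 := by
    have : Fact (Nat.Prime 5) := ⟨by norm_num⟩
    rw [cyclotomic_prime]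
    simp only [Finset.sum_range_succ, Finset.sum_range_zero]
    ring
  have h2 : cyclotomic (5 * 7) ℚ * cyclotomic 5 ℚ = expand ℚ 7 (X ^ 4 + X ^ 3 + X ^ 2 + X + 1) := by
    rw [← h, ← h5]
  rw [show (35 : ℕ) = 5 * 7 by norm_num, h2]
  simp only [map_add, map_pow, expand_X, map_one]
  ring

theorem next5 : (cyclotomic 5 ℚ).nextCoeff = 1 := by
  have : Fact (Nat.Prime 5) := ⟨by norm_num⟩
  have h5 : cyclotomic 5 ℚ = X ^ 4 + X ^ 3 + X ^ 2 + X + 1 := by
    rw [cyclotomic_prime]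
    simp only [Finset.sum_range_succ, Finset.sum_range_zero]
    ring
  have hd : (cyclotomic 5 ℚ).natDegree = 4 := by rw [natDegree_cyclotomic]; rfl
  rw [nextCoeff_of_natDegree_pos (by rw [hd]; norm_num), hd, h5]
  simp [coeff_X, coeff_one]

theorem next35 : (cyclotomic 35 ℚ).nextCoeff = -1 := by
  have h := cyc35
  have h1 := (cyclotomic.monic 35 ℚ).nextCoeff_mul (cyclotomic.monic 5 ℚ)
  have hd : (cyclotomic 35 ℚ * cyclotomic 5 ℚ).natDegree = 28 := by
    rw [(cyclotomic.monic 35 ℚ).natDegree_mul (cyclotomic.monic 5 ℚ), natDegree_cyclotomic, natDegree_cyclotomic]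
    decide +kernel
  have h2 : (cyclotomic 35 ℚ * cyclotomic 5 ℚ).nextCoeff = 0 := by
    rw [nextCoeff_of_natDegree_pos (by rw [hd]; norm_num), hd, h]
    simp [coeff_X_pow, coeff_one]
  rw [h2, next5] at h1
  linarith

variable {n : Type*} [Fintype n] [DecidableEq n]

/-- **The trace.** -/
theorem trace_one (hn : Fintype.card n = 24) {M : Matrix n n ℚ} (h : M ^ 28 + M ^ 21 + M ^ 14 + M ^ 7 + 1 = 0)
    (h5 : M ^ 5 ≠ 1) : M.trace = 1 := by
  have hirr : Irreducible (cyclotomic 35 ℚ) := cyclotomic.irreducible_rat (by norm_num)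
  have hann : aeval M (cyclotomic 35 ℚ * cyclotomic 5 ℚ) = 0 := by
    rw [cyc35]
    simp only [map_add, map_pow, aeval_X, map_one]
    exact h
  have hne : Nonempty n := by
    rw [← Fintype.card_pos_iff, hn]
    norm_num
  have hint : IsIntegral ℚ M := Matrix.isIntegral M
  have hdvd : minpoly ℚ M ∣ cyclotomic 35 ℚ * cyclotomic 5 ℚ := minpoly.dvd ℚ M hann
  have h35 : cyclotomic 35 ℚ ∣ minpoly ℚ M := by
    by_contra hcon
    have hcop : IsCoprime (minpoly ℚ M) (cyclotomic 35 ℚ) :=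
      ((hirr.coprime_iff_not_dvd).2 hcon).symm
    have h1 : minpoly ℚ M ∣ cyclotomic 5 ℚ := hcop.dvd_of_dvd_mul_left hdvd
    have h2 : aeval M (cyclotomic 5 ℚ) = 0 := by
      obtain ⟨q, hq⟩ := h1
      rw [hq, map_mul, minpoly.aeval, zero_mul]
    apply h5
    have h3 : (X ^ 5 - 1 : ℚ[X]) = cyclotomic 5 ℚ * (X - 1) := by
      have : Fact (Nat.Prime 5) := ⟨by norm_num⟩
      exact (cyclotomic_prime_mul_X_sub_one ℚ 5).symm
    have h4 := congrArg (aeval M) h3
    rw [map_mul, h2, zero_mul] at h4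
    simp only [map_sub, map_pow, aeval_X, map_one] at h4
    exact sub_eq_zero.1 h4
  have hc : cyclotomic 35 ℚ ∣ M.charpoly := h35.trans (Matrix.minpoly_dvd_charpoly M)
  have hdeg : (cyclotomic 35 ℚ).natDegree = 24 := by
    rw [natDegree_cyclotomic]
    decide +kernel
  have heq : M.charpoly = cyclotomic 35 ℚ := by
    refine Polynomial.eq_of_monic_of_dvd_of_natDegree_le (cyclotomic.monic 35 ℚ) M.charpoly_monic hc ?_
    rw [hdeg, Matrix.charpoly_natDegree_eq_dim, hn]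
  rw [Matrix.trace_eq_neg_charpoly_nextCoeff, heq, next35]
  norm_num

end Cfsg.Agent.H155.TC.Cyc
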