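import Cfsg.Agent.H155.TC.Tr

/-!
# The trace on the spin space of an automorphism without fixed points of `2^(1+2n)` (helper155)

`trace_mul_inv` : if `T (ρ p) T⁻¹ = ρ (α p)` and `α` has no fixed point on the quotient by the centre, then
`tr T * tr T⁻¹ = 1`.
-/

set_option autoImplicit false

namespace Cfsg.Agent.H155.TC.Pau

open Cfsg.Agent.Monster.PauliBasic Cfsg.Agent.Monster.PauliClif Cfsg.Agent.Monster.PauliRep

variable {n : ℕ}

/-- the space -/
abbrev W (n : ℕ) : Type := B n → ℚ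

/-- the trace of an automorphism -/
noncomputable def tr (T : W n ≃ₗ[ℚ] W n) : ℚ := LinearMap.trace ℚ (W n) (T : W n →ₗ[ℚ] W n)

theorem tr_conj (S T : W n ≃ₗ[ℚ] W n) : tr (S * T * S⁻¹) = tr T := by
  unfold tr
  have h : ((S * T * S⁻¹ : W n ≃ₗ[ℚ] W n) : W n →ₗ[ℚ] W n) =
      (S : W n →ₗ[ℚ] W n) * ((T : W n →ₗ[ℚ] W n) * ((S⁻¹ : W n ≃ₗ[ℚ] W n) : W n →ₗ[ℚ] W n)) := by
    apply LinearMap.ext
    intro x
    rfl
  rw [h, LinearMap.trace_mul_comm, mul_assoc]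
  have h2 : ((S⁻¹ : W n ≃ₗ[ℚ] W n) : W n →ₗ[ℚ] W n) * (S : W n →ₗ[ℚ] W n) = 1 := by
    apply LinearMap.ext
    intro x
    show (S⁻¹ * S) x = x
    rw [inv_mul_cancel]
    rfl
  rw [h2, mul_one]

theorem tr_neg {S T : W n ≃ₗ[ℚ] W n} (h : ∀ f, S f = -T f) : tr S = -tr T := by
  unfold tr
  have h1 : (S : W n →ₗ[ℚ] W n) = -(T : W n →ₗ[ℚ] W n) := by
    apply LinearMap.ext
    intro f
    exact h f
  rw [h1, map_neg]

theorem tr_one : tr (1 : W n ≃ₗ[ℚ] W n) = 2 ^ n := by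
  unfold tr
  have h : ((1 : W n ≃ₗ[ℚ] W n) : W n →ₗ[ℚ] W n) = LinearMap.id := rfl
  rw [h, LinearMap.trace_id, Module.finrank_fintype_fun_eq_card]
  simp

/-- the trace of a noncentral element -/
theorem tr_rho {p : Pauli n} (hp : ab p ≠ 0) : tr (rho ℚ p) = 0 := by
  obtain ⟨q, hq⟩ : ∃ q : Pauli n, q * p * q⁻¹ = Pauli.z n * p := by
    by_contra hcon
    push Not at hcon
    have h1 : p ∈ Subgroup.center (Pauli n) := by
      rw [Subgroup.mem_center_iff]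
      intro q
      have h2 : ab (q * p * q⁻¹) = ab p := by rw [Pauli.conj_eq]; rfl
      rcases (ab_eq_iff _ _).1 h2 with h3 | h3
      · rw [mul_inv_eq_iff_eq_mul] at h3
        exact h3
      · exact absurd h3 (hcon q)
    rcases (Pauli.mem_center_iff' _).1 h1 with h2 | h2
    · exact hp (by rw [h2]; rfl)
    · exact hp (by rw [h2]; rfl)
  have h1 := tr_conj (rho ℚ q) (rho ℚ p)
  rw [← map_mul, ← map_inv, ← map_mul, hq] at h1
  have h2 : tr (rho ℚ (Pauli.z n * p)) = -tr (rho ℚ p) := by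
    apply tr_neg
    intro f
    rw [map_mul]
    show rho ℚ (Pauli.z n) (rho ℚ p f) = _
    rw [rho_z]
  rw [h2] at h1
  linarith

variable {α : Pauli n ≃* Pauli n} {T : W n ≃ₗ[ℚ] W n}

theorem alpha_z (α : Pauli n ≃* Pauli n) : α (Pauli.z n) = Pauli.z n := by
  have h1 : Pauli.z n ∈ Subgroup.center (Pauli n) := (Pauli.mem_center_iff' _).2 (Or.inr rfl)
  have h2 : α (Pauli.z n) ∈ Subgroup.center (Pauli n) := by
    rw [Subgroup.mem_center_iff] at h1 ⊢
    intro g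
    have h3 := h1 (α.symm g)
    have h4 := congrArg α h3
    rw [map_mul, map_mul, α.apply_symm_apply] at h4
    exact h4
  rcases (Pauli.mem_center_iff' _).1 h2 with h3 | h3
  · exfalso
    have h4 : Pauli.z n = 1 := by
      rw [← map_one α] at h3
      exact α.injective h3
    exact Pauli.z_ne_one h4
  · exact h3

/-- **The trace.** -/
theorem trace_mul_inv (hT : ∀ p f, T (rho ℚ p f) = rho ℚ (α p) (T f))
    (hf : ∀ p, ab (α p) = ab p → ab p = 0) : tr T * tr T⁻¹ = 1 := by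
  classical
  have hT' : ∀ p, T * rho ℚ p * T⁻¹ = rho ℚ (α p) := by
    intro p
    apply LinearEquiv.ext
    intro f
    show T (rho ℚ p (T⁻¹ f)) = _
    rw [hT]
    congr 1
    exact T.apply_symm_apply f
  let S : W n →ₗ[ℚ] W n := ∑ p : Pauli n, ((rho ℚ p * T * (rho ℚ p)⁻¹ : W n ≃ₗ[ℚ] W n) : W n →ₗ[ℚ] W n)
  have hS : ∀ x : Pauli n, S ∘ₗ act ℚ x = act ℚ x ∘ₗ S := by
    intro x
    have e1 : (act ℚ x : W n →ₗ[ℚ] W n) = ((rho ℚ x : W n ≃ₗ[ℚ] W n) : W n →ₗ[ℚ] W n) := rfl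
    rw [e1]
    apply LinearMap.ext
    intro f
    show S (rho ℚ x f) = rho ℚ x (S f)
    have e2 : ∀ g, S g = ∑ p : Pauli n, (rho ℚ p * T * (rho ℚ p)⁻¹) g := by
      intro g
      show (∑ p : Pauli n, ((rho ℚ p * T * (rho ℚ p)⁻¹ : W n ≃ₗ[ℚ] W n) : W n →ₗ[ℚ] W n)) g = _
      rw [LinearMap.sum_apply]
      rfl
    rw [e2, e2, map_sum]
    rw [← Equiv.sum_comp (Equiv.mulLeft x) (fun p => (rho ℚ p * T * (rho ℚ p)⁻¹) (rho ℚ x f))]
    refine Finset.sum_congr rfl fun p _ => ?_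
    show (rho ℚ (x * p) * T * (rho ℚ (x * p))⁻¹) (rho ℚ x f) = rho ℚ x ((rho ℚ p * T * (rho ℚ p)⁻¹) f)
    rw [← LinearEquiv.mul_apply, ← LinearEquiv.mul_apply]
    congr 1
    rw [map_mul]
    group
  obtain ⟨c, hc⟩ := commutant (R := ℚ) (n := n) two_ne_zero S hS
  have htrS : LinearMap.trace ℚ (W n) S = Fintype.card (Pauli n) * tr T := by
    show LinearMap.trace ℚ (W n) (∑ p : Pauli n, _) = _
    rw [map_sum, Finset.sum_congr rfl fun p _ => (show LinearMap.trace ℚ (W n)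
      ((rho ℚ p * T * (rho ℚ p)⁻¹ : W n ≃ₗ[ℚ] W n) : W n →ₗ[ℚ] W n) = tr T from tr_conj _ _),
      Finset.sum_const, Finset.card_univ, nsmul_eq_mul]
  have hcard : (Fintype.card (Pauli n) : ℚ) = 2 * 2 ^ n * 2 ^ n := by
    have h := Pauli.card n
    rw [Nat.card_eq_fintype_card] at h
    rw [h]
    push_cast
    ring
  have hc2 : c = 2 * 2 ^ n * tr T := by
    rw [hc, map_smul, LinearMap.trace_id, Module.finrank_fintype_fun_eq_card, hcard] at htrS
    simp only [Fintype.card_pi, ZMod.card, Finset.prod_const, Finset.card_univ, Fintype.card_fin, smul_eq_mul] at htrS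
    push_cast at htrS
    have h2 : (2 : ℚ) ^ n ≠ 0 := pow_ne_zero _ two_ne_zero
    apply mul_right_cancel₀ h2
    linear_combination htrS
  have h1 : LinearMap.trace ℚ (W n) (S * ((T⁻¹ : W n ≃ₗ[ℚ] W n) : W n →ₗ[ℚ] W n)) = c * tr T⁻¹ := by
    rw [hc]
    have : (c • LinearMap.id : W n →ₗ[ℚ] W n) * ((T⁻¹ : W n ≃ₗ[ℚ] W n) : W n →ₗ[ℚ] W n) =
        c • ((T⁻¹ : W n ≃ₗ[ℚ] W n) : W n →ₗ[ℚ] W n) := by
      apply LinearMap.ext
      intro f
      rfl
    rw [this, map_smul, smul_eq_mul]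
    rfl
  have h2 : LinearMap.trace ℚ (W n) (S * ((T⁻¹ : W n ≃ₗ[ℚ] W n) : W n →ₗ[ℚ] W n)) =
      ∑ p : Pauli n, tr (rho ℚ (p * (α p)⁻¹)) := by
    have : S * ((T⁻¹ : W n ≃ₗ[ℚ] W n) : W n →ₗ[ℚ] W n) =
        ∑ p : Pauli n, ((rho ℚ (p * (α p)⁻¹) : W n ≃ₗ[ℚ] W n) : W n →ₗ[ℚ] W n) := by
      show (∑ p : Pauli n, _) * _ = _
      rw [Finset.sum_mul]
      refine Finset.sum_congr rfl fun p _ => ?_
      have e : rho ℚ p * T * (rho ℚ p)⁻¹ * T⁻¹ = rho ℚ (p * (α p)⁻¹) := by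
        rw [map_mul, map_inv, ← hT' p]
        group
      rw [← e]
      rfl
    rw [this, map_sum]
    rfl
  have h3 : ∀ p : Pauli n, tr (rho ℚ (p * (α p)⁻¹)) = if p = 1 ∨ p = Pauli.z n then 2 ^ n else 0 := by
    intro p
    by_cases hp : p = 1 ∨ p = Pauli.z n
    · rw [if_pos hp]
      rcases hp with rfl | rfl
      · rw [map_one, inv_one, mul_one, map_one]
        exact tr_one
      · rw [alpha_z, mul_inv_cancel, map_one]
        exact tr_one
    · rw [if_neg hp]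
      apply tr_rho
      intro h4
      apply hp
      have h5 : ab (α p) = ab p := by
        have h6 : ab (p * (α p)⁻¹ * α p) = ab (p * (α p)⁻¹) + ab (α p) := ab_mul _ _
        rw [inv_mul_cancel_right, h4, zero_add] at h6
        exact h6.symm
      have h7 := hf p h5
      have h8 : ab p = ab 1 := by rw [h7]; rfl
      rcases (ab_eq_iff _ _).1 h8 with h | h
      · exact Or.inl h
      · exact Or.inr (by rw [h, mul_one])
  have h4 : ∑ p : Pauli n, tr (rho ℚ (p * (α p)⁻¹)) = 2 * 2 ^ n := by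
    rw [Finset.sum_congr rfl fun p _ => h3 p, ← Finset.sum_filter, Finset.sum_const, nsmul_eq_mul]
    have h5 : (Finset.univ.filter fun p : Pauli n => p = 1 ∨ p = Pauli.z n) = {1, Pauli.z n} := by
      ext p
      simp
    rw [h5, Finset.card_pair (Ne.symm Pauli.z_ne_one)]
    norm_num
  rw [h1, hc2, h4] at h2
  have h6 : (2 : ℚ) * 2 ^ n ≠ 0 := mul_ne_zero two_ne_zero (pow_ne_zero _ two_ne_zero)
  apply mul_left_cancel₀ h6
  linear_combination h2

end Cfsg.Agent.H155.TC.Pau
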