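import Cfsg.Agent.H155.TC.Val
import Cfsg.Agent.H606.Uniq.Main
import Cfsg.Agent.H606.OreM.Small
import Cfsg.Agent.H65.Ore.Prd

/-!
# Products of two classes of the Monster: T1 for elements of order 35 (helper155; S4173, S2464, row M)

* `prd_gen` : the sieve with the values at the character `chi` of degree `196883` and the degrees `≥ 21296876` else;
* `prd_35` : `|C(g)| ≤ 27700000000` implies that `g` is a product of two conjugates of `x`, `x` of order 35 in `C(zz)`.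
-/

set_option autoImplicit false
set_option maxRecDepth 100000

namespace Cfsg.Agent.H155.TC.TOne

open Cfsg Cfsg.Agent.BpSpor.MBigModel Cfsg.Agent.H65.Ore Cfsg.Agent.Characters
open Cfsg.Agent.H455.OreM.Deg19 (Loc)
open Cfsg.Agent.H715.Mon.Grp (SThree)
open Cfsg.Agent.MonsterU.Lam2 (L2)
open Cfsg.Agent.H875.M23.TraceChar (chi chi_irr chi_one)
open Subgroup (centralizer)

/-- the character of degree `196883` -/
noncomputable def psi : IrrCharacter MG := ⟨chi, chi_irr⟩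

theorem deg_psi : charDegree (psi : MG → ℂ) = 196883 := by
  show charDegree chi = 196883
  unfold charDegree
  rw [chi_one]
  norm_num

theorem norm_one' (χ : IrrCharacter MG) : ‖(χ : MG → ℂ) 1‖ = (charDegree (χ : MG → ℂ) : ℝ) := by
  have := finite
  obtain ⟨n, hn0, hn⟩ := Cfsg.Agent.Characters.Core.isIrr_apply_one χ.2
  unfold charDegree
  rw [hn, Complex.norm_natCast]
  simp

theorem deg_other (L : Loc) (h3 : SThree.{0}) {χ : IrrCharacter MG} (h1 : χ ≠ one1 MG) (h2 : χ ≠ psi) :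
    (21296876 : ℝ) ≤ ‖(χ : MG → ℂ) 1‖ := by
  rw [norm_one']
  rcases Cfsg.Agent.H606.OreM.deg_two L χ (coe_ne_one h1) with h | h
  · exact absurd (Cfsg.Agent.H606.Uniq.Main.uniq L h3 χ psi h deg_psi) h2
  · exact_mod_cast h

theorem psi_ne : psi ≠ one1 MG := by
  intro h
  have h1 := deg_psi
  rw [h] at h1
  have h2 : charDegree ((one1 MG : IrrCharacter MG) : MG → ℂ) = 1 := by
    show charDegree (1 : MG → ℂ) = 1
    unfold charDegree
    simp
  omega

/-- **The sieve.** -/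
theorem prd_gen (L : Loc) (h3 : SThree.{0}) {x y g : MG} {cx cy : ℕ} {a b : ℝ}
    (hx : Nat.card (centralizer ({x} : Set MG)) ≤ cx) (hy : Nat.card (centralizer ({y} : Set MG)) ≤ cy)
    (ha : ‖chi x‖ = a) (hb : ‖chi y‖ = b)
    (hK : ((a * b / 196883) ^ 2 + ((cx : ℝ) - 1 - a ^ 2) * ((cy : ℝ) - 1 - b ^ 2) / 21296876 ^ 2) *
      ((Nat.card (centralizer ({g} : Set MG)) : ℝ) - 1) < 1) : Prd x y g := by
  classical
  have hfin := finite
  have := Cfsg.Agent.Characters.Core.finite_irr (G := MG)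
  have := Fintype.ofFinite (IrrCharacter MG)
  apply prd_of_weighted
  have hg : (0 : ℝ) ≤ (Nat.card (centralizer ({g} : Set MG)) : ℝ) - 1 := by
    have : (1 : ℝ) ≤ (Nat.card (centralizer ({g} : Set MG)) : ℝ) := by exact_mod_cast Nat.card_pos
    linarith
  refine lt_of_le_of_lt (mul_le_mul_of_nonneg_right ?_ hg) hK
  have hmem : psi ∈ Finset.univ.erase (one1 MG) := Finset.mem_erase.2 ⟨psi_ne, Finset.mem_univ _⟩
  set s := (Finset.univ.erase (one1 MG)).erase psi with hs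
  rw [← Finset.add_sum_erase Finset.univ _ (Finset.mem_univ (one1 MG)), ← Finset.add_sum_erase _ _ hmem, ← hs]
  have e1 : (‖((one1 MG : IrrCharacter MG) : MG → ℂ) x‖ * ‖((one1 MG : IrrCharacter MG) : MG → ℂ) y‖ /
      ‖((one1 MG : IrrCharacter MG) : MG → ℂ) 1‖) ^ 2 = 1 := by
    simp only [one1_apply, norm_one, mul_one, div_one, one_pow]
  have e2 : (‖((psi : IrrCharacter MG) : MG → ℂ) x‖ * ‖((psi : IrrCharacter MG) : MG → ℂ) y‖ /
      ‖((psi : IrrCharacter MG) : MG → ℂ) 1‖) ^ 2 = (a * b / 196883) ^ 2 := by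
    have h1 : ‖((psi : IrrCharacter MG) : MG → ℂ) x‖ = a := ha
    have h2 : ‖((psi : IrrCharacter MG) : MG → ℂ) y‖ = b := hb
    rw [h1, h2, norm_one', deg_psi]
    norm_num
  rw [e1, e2]
  have hsum : ∀ (t : MG) (c : ℕ) (d : ℝ), Nat.card (centralizer ({t} : Set MG)) ≤ c → ‖chi t‖ = d →
      ∑ χ ∈ s, ‖(χ : MG → ℂ) t‖ ^ 2 ≤ (c : ℝ) - 1 - d ^ 2 := by
    intro t c d hc hd
    have h1 := sum_erase_sq (G := MG) t
    rw [← Finset.add_sum_erase _ _ hmem, ← hs] at h1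
    have h2 : ‖((psi : IrrCharacter MG) : MG → ℂ) t‖ = d := hd
    rw [h2] at h1
    have h4 : (Nat.card (centralizer ({t} : Set MG)) : ℝ) ≤ c := by exact_mod_cast hc
    linarith
  have h1 : ∑ χ ∈ s, (‖(χ : MG → ℂ) x‖ * ‖(χ : MG → ℂ) y‖ / ‖(χ : MG → ℂ) 1‖) ^ 2 ≤
      ((cx : ℝ) - 1 - a ^ 2) * ((cy : ℝ) - 1 - b ^ 2) / 21296876 ^ 2 := by
    have h2 : ∀ χ ∈ s, (‖(χ : MG → ℂ) x‖ * ‖(χ : MG → ℂ) y‖ / ‖(χ : MG → ℂ) 1‖) ^ 2 ≤
        ‖(χ : MG → ℂ) x‖ ^ 2 * ‖(χ : MG → ℂ) y‖ ^ 2 / 21296876 ^ 2 := by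
      intro χ hχ
      rw [hs, Finset.mem_erase, Finset.mem_erase] at hχ
      have h4 := deg_other L h3 hχ.2.1 hχ.1
      rw [div_pow, mul_pow]
      have h5 : (21296876 : ℝ) ^ 2 ≤ ‖(χ : MG → ℂ) 1‖ ^ 2 := pow_le_pow_left₀ (by norm_num) h4 2
      exact div_le_div_of_nonneg_left (by positivity) (by norm_num) h5
    refine (Finset.sum_le_sum h2).trans ?_
    rw [← Finset.sum_div]
    apply div_le_div_of_nonneg_right _ (by norm_num)
    have h6 : ∑ χ ∈ s, ‖(χ : MG → ℂ) x‖ ^ 2 * ‖(χ : MG → ℂ) y‖ ^ 2 ≤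
        (∑ χ ∈ s, ‖(χ : MG → ℂ) x‖ ^ 2) * ∑ χ ∈ s, ‖(χ : MG → ℂ) y‖ ^ 2 := by
      rw [Finset.sum_mul]
      refine Finset.sum_le_sum fun χ hχ => mul_le_mul_of_nonneg_left ?_ (by positivity)
      exact Finset.single_le_sum (f := fun χ : IrrCharacter MG => ‖(χ : MG → ℂ) y‖ ^ 2) (fun _ _ => by positivity) hχ
    refine h6.trans ?_
    exact mul_le_mul (hsum x cx a hx ha) (hsum y cy b hy hb) (Finset.sum_nonneg fun _ _ => by positivity)
      ((Finset.sum_nonneg fun _ _ => by positivity).trans (hsum x cx a hx ha))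
  linarith

/-- **T1 for the elements of order 35 of `C(zz)`.** -/
theorem prd_35 (L : Loc) (h3 : SThree.{0}) {x y : centralizer ({zz} : Set MG)} (hox : orderOf (pi x) = 35)
    (hfx : ∀ v : L2, pi x • v = v → v = 0) (h7x : ∀ v : L2, (pi x) ^ 7 • v = v → v = 0)
    (hCx : Nat.card (centralizer ({(x : MG)} : Set MG)) ≤ 70) (hoy : orderOf (pi y) = 35)
    (hfy : ∀ v : L2, pi y • v = v → v = 0) (h7y : ∀ v : L2, (pi y) ^ 7 • v = v → v = 0)
    (hCy : Nat.card (centralizer ({(y : MG)} : Set MG)) ≤ 70) {g : MG}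
    (hg : Nat.card (centralizer ({g} : Set MG)) ≤ 27700000000) : Prd (x : MG) (y : MG) g := by
  have hn : ∀ z : centralizer ({zz} : Set MG), orderOf (pi z) = 35 → (∀ v : L2, pi z • v = v → v = 0) →
      (∀ v : L2, (pi z) ^ 7 • v = v → v = 0) → ‖chi (z : MG)‖ = 1 := by
    intro z h1 h2 h4
    rcases Val.chi_val h1 h2 h4 with h | h
    · rw [h, norm_one]
    · rw [h, norm_neg, norm_one]
  refine prd_gen L h3 hCx hCy (hn x hox hfx h7x) (hn y hoy hfy h7y) ?_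
  have h1 : (Nat.card (centralizer ({g} : Set MG)) : ℝ) ≤ 27700000000 := by exact_mod_cast hg
  norm_num
  nlinarith

end Cfsg.Agent.H155.TC.TOne
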