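import Cfsg.Agent.MonsterX.KDone
import Cfsg.Agent.H831.FF.Trace

/-!
# The trace of an element of `2^(1+24).Co1` on the space of dimension `196884` (helper155)

`trace_act` : if `k` acts through `A`, `α`, `T` and `α` fixes no short element modulo the centre, then
`tr k = ((tr A)^2 + tr (A^2)) / 2 + tr T * tr A`.
-/

set_option autoImplicit false
set_option maxRecDepth 100000

namespace Cfsg.Agent.H155.TC.Tr

open Cfsg Cfsg.Agent.Monster.VecEngine Cfsg.Agent.Monster Cfsg.Agent.Monster.VecSpace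
open Cfsg.Agent.MonsterX.ProgBase Cfsg.Agent.MonsterX.Space Cfsg.Agent.MonsterX.MatAct
open Cfsg.Agent.MonsterX.CoGens Cfsg.Agent.MonsterX.USide Cfsg.Agent.MonsterX.UOnto
open Cfsg.Agent.MonsterX.Short Cfsg.Agent.MonsterX.KX Cfsg.Agent.MonsterX.LabPl
open Cfsg.Agent.Monster.PauliBasic Cfsg.Agent.Monster.PauliClif Cfsg.Agent.Monster.PauliRep
open Cfsg.Agent.Monster.PauliPlanes Cfsg.Agent.Monster.TensorProg
open Cfsg.Agent.MonsterX.KRows Cfsg.Agent.MonsterX.KAsm Cfsg.Agent.SporadicStructure.Co0Base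
open Cfsg.Agent.MonsterX.KInst (labFacts)
open Cfsg.Agent.H831.FF (mat)

/-- the trace from a frame -/
theorem trace_of_frame {V : Type*} [AddCommGroup V] [Module ℚ V] [FiniteDimensional ℚ V] {ι : Type*} [Fintype ι]
    (φ : ι → V →ₗ[ℚ] ℚ) (v : ι → V) (h : ∀ x, ∑ i, φ i x • v i = x) (f : V →ₗ[ℚ] V) :
    LinearMap.trace ℚ V f = ∑ i, φ i (f (v i)) := by
  have h1 : f = ∑ i, (φ i).smulRight (f (v i)) := by
    apply LinearMap.ext
    intro x
    rw [LinearMap.sum_apply]
    conv_lhs => rw [← h x, map_sum]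
    refine Finset.sum_congr rfl fun i _ => ?_
    rw [map_smul]
    rfl
  conv_lhs => rw [h1, map_sum]
  refine Finset.sum_congr rfl fun i _ => ?_
  exact LinearMap.trace_smulRight _ _

/-- the coordinate of a lane -/
def co (i : Lane U) : V →ₗ[ℚ] ℚ := (LinearMap.proj i).comp Vs.subtype

theorem co_apply (i : Lane U) (v : V) : co i v = v.1 i := rfl

theorem frame (x : V) : ∑ i, co i x • pr (e1 i) = x := by
  rw [← pr_val x]
  conv_lhs => rw [pr_val x]
  rw [show (∑ i, co i x • pr (e1 i)) = pr (∑ i, co i x • e1 i) by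
    rw [map_sum]
    exact Finset.sum_congr rfl fun i _ => (map_smul _ _ _).symm]
  congr 1
  funext j
  rw [Finset.sum_apply, Finset.sum_eq_single j]
  · rw [Pi.smul_apply, co_apply]
    unfold e1
    rw [if_pos rfl, smul_eq_mul, mul_one]
  · intro i _ hi
    rw [Pi.smul_apply]
    unfold e1
    rw [if_neg (Ne.symm hi), smul_zero]
  · intro h
    exact absurd (Finset.mem_univ _) h

instance : FiniteDimensional ℚ V := inferInstance

theorem trace_eq (k : V →ₗ[ℚ] V) : LinearMap.trace ℚ V k = ∑ i, (k (pr (e1 i))).1 i :=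
  trace_of_frame co (fun i => pr (e1 i)) frame k

/-! ### The lanes -/

theorem e1_lane (p q : GolayPt) : e1 (lane p q) = uv p q := by
  funext j
  rw [uv_apply]
  rfl

/-- the lane of the tensor part -/
noncomputable def laneW (b : B 12) (p : GolayPt) : Lane U := ⟨131072 + (32 * PauliBits.idx b + slS p), by
  apply U_of_UW
  have h1 := PauliBits.idx_lt b
  have h2 := slS_lt p
  rw [testBit_UW]
  simp only [Bool.and_eq_true, decide_eq_true_eq]
  omega⟩

theorem laneW_val (b : B 12) (p : GolayPt) : (laneW b p).1 = 131072 + (32 * PauliBits.idx b + slS p) := rfl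

theorem laneW_UW (b : B 12) (p : GolayPt) : UW.testBit (laneW b p).1 = true := by
  have h1 := PauliBits.idx_lt b
  have h2 := slS_lt p
  rw [testBit_UW, laneW_val]
  simp only [Bool.and_eq_true, decide_eq_true_eq]
  omega

theorem vec_laneW (b : B 12) (p : GolayPt) : PauliBits.vec 12 ((laneW b p).1 / 32) = b := by
  have h1 := PauliBits.idx_lt b
  have h2 := slS_lt p
  rw [laneW_val]
  have h3 : (131072 + (32 * PauliBits.idx b + slS p)) / 32 = 4096 + PauliBits.idx b := by omega
  rw [h3]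
  have h4 : PauliBits.idx (PauliBits.vec 12 (4096 + PauliBits.idx b)) = PauliBits.idx b := by
    rw [PauliBits.idx_vec_mod]
    omega
  exact PauliBits.idx_injective h4

theorem pt_laneW (b : B 12) (p : GolayPt) : ptS ((laneW b p).1 % 32) = p := by
  have h1 := PauliBits.idx_lt b
  have h2 := slS_lt p
  rw [laneW_val]
  have h3 : (131072 + (32 * PauliBits.idx b + slS p)) % 32 = slS p := by omega
  rw [h3, ptS_slS]

theorem exists_laneW {i : Lane U} (h : UW.testBit i.1 = true) : ∃ b p, i = laneW b p := by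
  refine ⟨PauliBits.vec 12 (i.1 / 32), ptS (i.1 % 32), Subtype.ext ?_⟩
  rw [testBit_UW] at h
  simp only [Bool.and_eq_true, decide_eq_true_eq] at h
  rw [laneW_val, PauliBits.idx_vec_mod, slS_ptS _ h.2.2]
  omega

theorem laneW_inj {b b' : B 12} {p p' : GolayPt} (h : laneW b p = laneW b' p') : b = b' ∧ p = p' := by
  constructor
  · rw [← vec_laneW b p, h, vec_laneW]
  · rw [← pt_laneW b p, h, pt_laneW]

/-- the sum over the lanes -/
theorem sum_lanes (g : Lane U → ℚ) : ∑ i, g i = ∑ p, ∑ q, g (lane p q) +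
    ∑ i : Lane U, (if SL.testBit i.1 = true then g i else 0) + ∑ b, ∑ p, g (laneW b p) := by
  classical
  have h1 : ∑ i, g i = ∑ i : Lane U, (if matM.testBit i.1 = true then g i else 0) +
      ∑ i : Lane U, (if SL.testBit i.1 = true then g i else 0) +
      ∑ i : Lane U, (if UW.testBit i.1 = true then g i else 0) := by
    rw [← Finset.sum_add_distrib, ← Finset.sum_add_distrib]
    refine Finset.sum_congr rfl fun i _ => ?_
    rcases cases_U i with h | h | h
    · rw [if_pos h, if_neg (disj mat_SL h), if_neg (disj mat_UW h), add_zero, add_zero]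
    · rw [if_neg (fun h' => disj mat_SL h' h), if_pos h, if_neg (disj SL_UW h), zero_add, add_zero]
    · rw [if_neg (fun h' => disj mat_UW h' h), if_neg (fun h' => disj SL_UW h' h), if_pos h, zero_add, zero_add]
  rw [h1]
  congr 1
  · congr 1
    rw [← Finset.sum_filter, ← Finset.sum_product']
    symm
    refine Finset.sum_bij (fun x _ => lane x.1 x.2) (fun x _ => ?_) (fun x _ y _ h => ?_) (fun i hi => ?_) fun x _ => rfl
    · rw [Finset.mem_filter]
      exact ⟨Finset.mem_univ _, (ln_U x.1 x.2).2⟩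
    · exact Prod.ext (lane_inj h).1 (lane_inj h).2
    · obtain ⟨p, q, e⟩ := exists_lane (Finset.mem_filter.1 hi).2
      exact ⟨(p, q), Finset.mem_univ _, e.symm⟩
  · rw [← Finset.sum_filter, ← Finset.sum_product']
    symm
    refine Finset.sum_bij (fun x _ => laneW x.1 x.2) (fun x _ => ?_) (fun x _ y _ h => ?_) (fun i hi => ?_) fun x _ => rfl
    · rw [Finset.mem_filter]
      exact ⟨Finset.mem_univ _, laneW_UW x.1 x.2⟩
    · exact Prod.ext (laneW_inj h).1 (laneW_inj h).2
    · obtain ⟨p, q, e⟩ := exists_laneW (Finset.mem_filter.1 hi).2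
      exact ⟨(p, q), Finset.mem_univ _, e.symm⟩

/-! ### The three parts -/

theorem pr_uv (p q : GolayPt) : pr (e1 (lane p q)) = (8 : ℚ)⁻¹ • (u (e8 p + e8 q) - u (e8 p) - u (e8 q)) := by
  rw [e1_lane]
  apply Subtype.ext
  rw [pr_coe, tr_uv]
  funext i
  show (1 / 2 : ℚ) * (uv p q i + uv q p i) = (8 : ℚ)⁻¹ * (uf (rt (e8 p + e8 q)) i - uf (rt (e8 p)) i - uf (rt (e8 q)) i)
  by_cases h : matM.testBit i.1 = true
  · obtain ⟨a, b, rfl⟩ := exists_lane h
    rw [uf_lane, uf_lane, uf_lane]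
    have e : ∀ c, rt (e8 p + e8 q) c = rt (e8 p) c + rt (e8 q) c := by
      intro c
      show (((e8 p : GolayPt → ℤ) c + (e8 q : GolayPt → ℤ) c : ℤ) : ℚ) = _
      push_cast
      rfl
    rw [e, e, rt_e8, rt_e8, uv_apply, uv_apply]
    have h1 : (lane a b = lane p q) ↔ (a = p ∧ b = q) := ⟨lane_inj, fun h => by rw [h.1, h.2]⟩
    have h2 : (lane a b = lane q p) ↔ (a = q ∧ b = p) := ⟨lane_inj, fun h => by rw [h.1, h.2]⟩
    have s : ∀ i c, (Pi.single i (8 : ℚ) : GolayPt → ℚ) c = 8 * (if c = i then 1 else 0) := by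
      intro i c
      rw [Pi.single_apply]
      split_ifs <;> norm_num
    have t : ∀ (P Q : Prop) [Decidable P] [Decidable Q], (if P ∧ Q then (1 : ℚ) else 0) =
        (if P then 1 else 0) * (if Q then 1 else 0) := by
      intro P Q _ _
      by_cases hP : P <;> by_cases hQ : Q <;> simp [hP, hQ]
    simp only [h1, h2, s, t]
    ring
  · rw [uf_other _ h, uf_other _ h, uf_other _ h, uv_apply, uv_apply, if_neg, if_neg]
    · norm_num
    · intro e
      exact h (by rw [e]; exact (ln_U q p).2)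
    · intro e
      exact h (by rw [e]; exact (ln_U p q).2)

variable {k : V ≃ₗ[ℚ] V} {A : Co0} {α : Pauli 12 ≃* Pauli 12} {T : (B 12 → ℚ) ≃ₗ[ℚ] (B 12 → ℚ)}

theorem rt_smul (A : Co0) (i j : GolayPt) : rt (A • e8 i) j = 8 * mat A j i := by
  show rt (A • e8 i) j = 8 * ((((A • e8 i : leechLattice) : GolayPt → ℤ) j : ℚ) / 8)
  rw [mul_div_cancel₀ _ (by norm_num : (8 : ℚ) ≠ 0)]

theorem part_mat (h : Act k A α T) (p q : GolayPt) :
    (k (pr (e1 (lane p q)))).1 (lane p q) = (mat A p p * mat A q q + mat A p q * mat A q p) / 2 := by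
  rw [pr_uv, map_smul, map_sub, map_sub, h.act_u, h.act_u, h.act_u]
  show (8 : ℚ)⁻¹ * (uf (rt (A • (e8 p + e8 q))) (lane p q) - uf (rt (A • e8 p)) (lane p q) -
    uf (rt (A • e8 q)) (lane p q)) = _
  rw [uf_lane, uf_lane, uf_lane]
  have e : ∀ c, rt (A • (e8 p + e8 q)) c = rt (A • e8 p) c + rt (A • e8 q) c := by
    intro c
    rw [Cfsg.Agent.LeechMat.Core.co0_smul_add]
    show ((((A • e8 p : leechLattice) : GolayPt → ℤ) c + ((A • e8 q : leechLattice) : GolayPt → ℤ) c : ℤ) : ℚ) = _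
    push_cast
    rfl
  rw [e, e, rt_smul, rt_smul, rt_smul, rt_smul]
  ring

theorem part_SL (h : Act k A α T) (hfix : ∀ x ∈ Sh, ab (α x) ≠ ab x) (i : Lane U) (hi : SL.testBit i.1 = true) :
    (k (pr (e1 i))).1 i = 0 := by
  have h1 : pr (e1 i) = Xv (labP 12 lab i.1) := by
    rw [← Xv_lab labFacts i hi, pr_val]
  rw [h1, h.act_X, Xv_apply, Xf_of_SL _ hi]
  exact chi_ne fun h2 => hfix _ (labFacts.sh _ hi) h2.symm

theorem part_UW (h : Act k A α T) (b : B 12) (p : GolayPt) :
    (k (pr (e1 (laneW b p)))).1 (laneW b p) = T (Pi.single b 1) b * mat A p p := by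
  have h1 : pr (e1 (laneW b p)) = (8 : ℚ)⁻¹ • Θ (Pi.single b 1) (rt (e8 p)) := by
    rw [← map_smul, ← single_eq]
    have h2 := Θ_single (laneW b p) (laneW_UW b p)
    rw [vec_laneW, pt_laneW] at h2
    rw [← h2, pr_val]
  rw [h1, map_smul, h.act_Θ]
  show (8 : ℚ)⁻¹ * (Θ (T (Pi.single b 1)) (rt (A • e8 p))).1 (laneW b p) = _
  rw [Θ_apply, Tf_of _ _ (laneW_UW b p), vec_laneW, pt_laneW, rt_smul]
  ring

/-- **The trace.** -/
theorem trace_act (h : Act k A α T) (hfix : ∀ x ∈ Sh, ab (α x) ≠ ab x) :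
    LinearMap.trace ℚ V (k : V →ₗ[ℚ] V) = ((mat A).trace ^ 2 + (mat A * mat A).trace) / 2 +
      LinearMap.trace ℚ (B 12 → ℚ) (T : (B 12 → ℚ) →ₗ[ℚ] (B 12 → ℚ)) * (mat A).trace := by
  rw [trace_eq, sum_lanes]
  have e1' : ∑ i : Lane U, (if SL.testBit i.1 = true then ((k : V →ₗ[ℚ] V) (pr (e1 i))).1 i else 0) = 0 := by
    refine Finset.sum_eq_zero fun i _ => ?_
    split_ifs with hi
    · exact part_SL h hfix i hi
    · rfl
  rw [e1', add_zero]
  congr 1
  · have e2 : ∀ p q, ((k : V →ₗ[ℚ] V) (pr (e1 (lane p q)))).1 (lane p q) =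
        (mat A p p * mat A q q + mat A p q * mat A q p) / 2 := fun p q => part_mat h p q
    simp only [e2]
    simp only [← Finset.sum_div, Finset.sum_add_distrib]
    have e5 : ∑ p, ∑ q, mat A p p * mat A q q = (mat A).trace ^ 2 := by
      rw [sq, Matrix.trace, Finset.sum_mul_sum]
      rfl
    have e6 : ∑ p, ∑ q, mat A p q * mat A q p = (mat A * mat A).trace := by
      rw [Matrix.trace]
      refine Finset.sum_congr rfl fun p _ => ?_
      rw [Matrix.diag_apply, Matrix.mul_apply]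
    rw [e5, e6]
  · have e3 : ∀ b p, ((k : V →ₗ[ℚ] V) (pr (e1 (laneW b p)))).1 (laneW b p) = T (Pi.single b 1) b * mat A p p :=
      fun b p => part_UW h b p
    simp only [e3]
    have e4 : LinearMap.trace ℚ (B 12 → ℚ) (T : (B 12 → ℚ) →ₗ[ℚ] (B 12 → ℚ)) = ∑ b, T (Pi.single b 1) b := by
      refine trace_of_frame (fun b => LinearMap.proj b) (fun b => Pi.single b 1) (fun x => ?_) _
      funext c
      rw [Finset.sum_apply, Finset.sum_eq_single c]
      · rw [Pi.smul_apply, Pi.single_eq_same]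
        simp
      · intro b _ hb
        rw [Pi.smul_apply, Pi.single_eq_of_ne (Ne.symm hb), smul_zero]
      · intro hc
        exact absurd (Finset.mem_univ _) hc
    rw [e4, Matrix.trace, Finset.sum_mul_sum]
    rfl

end Cfsg.Agent.H155.TC.Tr
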